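import Groth.Agent.Surf.K848.DetFit
import Groth.Agent.Surf.K457.BlowMult
import Groth.Agent.AdjLin.K800.Restr
import Groth.Agent.Models.H58.CurveBC
import Groth.Agent.Ega3B.SectExact
import Groth.Agent.VarietyA.CurveFin
import Groth.Agent.Fga.HShift
import Groth.Agent.CurvesC.CurveNum
import Groth.Agent.Surf.K464.Cohom
import Groth.Agent.CurvesB.CurveRR
import Groth.Agent.CycB.PureK

/-!
# Integrality of smooth members of a linear system containing an integral member

`isIntegral_of_iso`: on a proper integral scheme over an algebraically closed field with `H^1(O) = 0`, if `I_J ≅ I_I`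
as modules with `V(I)` integral and `V(J)` smooth, then `V(J)` is integral.
-/

set_option autoImplicit false
universe u
open CategoryTheory CategoryTheory.Limits AlgebraicGeometry Opposite TopologicalSpace

namespace K848.Conn

open Groth.Agent K464.Base K464.Curves K464.Cohom Groth.Agent.Grpsch.PicGrp Groth.Agent.Dix.IdealModCartier
  Groth.Agent.Divis.CartierBasic

variable (k : Type u) [Field k] {X : Scheme.{u}} [X.Over (Spec (CommRingCat.of k))]
  [IsIntegral X] [IsProper (X ↘ Spec (CommRingCat.of k))]

include k in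
theorem injective_app (I : X.IdealSheafData) (hne : Nonempty I.subscheme) :
    Function.Injective (I.subschemeι.app ⊤).hom := by
  have hf : IsField Γ(X, ⊤) := isField_of_universallyClosed k (X ↘ Spec (CommRingCat.of k))
  have hne' : Nonempty (⊤ : I.subscheme.Opens) := ⟨⟨hne.some, trivial⟩⟩
  have hnt : Nontrivial Γ(I.subscheme, ⊤) := inferInstance
  have hnt' : Nontrivial Γ(I.subscheme, I.subschemeι ⁻¹ᵁ ⊤) := hnt
  let _ : Field Γ(X, ⊤) := hf.toField
  exact RingHom.injective _

include k in
/-- `H^0(X, I) = 0` for a nonempty closed subscheme. -/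
theorem subsingleton_H0 (I : X.IdealSheafData) (hne : Nonempty I.subscheme) :
    Subsingleton (Coh.HH X (ClSub.idealMod I) 0) := by
  have hS := K800.Restr.S₀_shortExact I
  have key : ∀ s : Γ(ClSub.idealMod I, ⊤), s = 0 := by
    intro s
    have h1 : (K800.Restr.S₀ I).g.app ⊤ ((K800.Restr.S₀ I).f.app ⊤ s) = 0 := by
      have h2 := (K800.Restr.S₀ I).zero
      have h3 := congrArg (fun t => (t.app ⊤).hom s) h2
      exact h3
    have h4 : (K800.Restr.S₀ I).f.app ⊤ s = 0 := by
      apply injective_app k I hne
      refine Eq.trans h1 ?_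
      exact (map_zero _).symm
    have := hS.mono_f
    exact CycB.PureK.app_injective_of_mono (K800.Restr.S₀ I).f ⊤ (h4.trans (map_zero _).symm)
  exact (VarietyA.H0Equiv.hZeroEquiv (ClSub.idealMod I)).toEquiv.subsingleton_congr.2
    ⟨fun a b => (key a).trans (key b).symm⟩

/-- `H^1(X, I) = 0` if `H^1(O) = 0` and the closed subscheme is integral (`k` algebraically closed). -/
theorem subsingleton_H1 [IsAlgClosed k] (h3 : Subsingleton (Coh.HH X (Coh.structureModule X) 1))
    (E : X.IdealSheafData) [IsIntegral E.subscheme] : Subsingleton (Coh.HH X (ClSub.idealMod E) 1) := by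
  have hne : Nonempty E.subscheme := inferInstance
  have h0 : Module.finrank k (Coh.HH X (Coh.structureModule X) 0) = 1 := VarietyA.CurveFin.finrank_h0_structure k X
  have h1 : Module.finrank k (Coh.HH X (ClSub.quotMod E) 0) = 1 := by
    let _ := overC k X E
    have : IsProper (E.subscheme ↘ Spec (CommRingCat.of k)) :=
      inferInstanceAs (IsProper (E.subschemeι ≫ (X ↘ Spec (CommRingCat.of k))))
    have h := VarietyA.CurveFin.finrank_h0_structure k E.subscheme
    rw [← h]
    exact (LinearEquiv.finrank_eq (CurvesC.CurveNum.hhPushₗ k E.subschemeι rfl (Coh.structureModule E.subscheme) 0)).symm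
  have h2 : Module.finrank k (Coh.HH X (ClSub.idealMod E) 0) = 0 := by
    have := subsingleton_H0 k E hne
    exact Module.finrank_zero_of_subsingleton
  have hseq := Groth.Agent.VarietyB.RestrSeq.idealSeq_shortExact E
  have hf0 : Module.Finite k (Coh.HH X (Groth.Agent.VarietyB.RestrSeq.idealSeq E).X₂ 0) :=
    finite_HH k (isCoh_unit k X) 0
  have hf1 : Module.Finite k (Coh.HH X (Groth.Agent.VarietyB.RestrSeq.idealSeq E).X₃ 0) :=
    finite_HH k (isCoh_quotMod X E) 0
  have hf2 : Module.Finite k (Coh.HH X (Groth.Agent.VarietyB.RestrSeq.idealSeq E).X₁ 1) :=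
    finite_HH k (isCoh_idealMod k X E) 1
  have hf2' : Module.Finite k (Coh.HH X (ClSub.idealMod E) 1) := hf2
  have hfive := Groth.Agent.CurvesB.CurveRR.finrank_five (k := k) _ _ _ _
    (Groth.Agent.VarietyA.EulerLES.injectiveA₀ k _ hseq) (Groth.Agent.VarietyA.EulerLES.exactA₂ k _ hseq 0)
    (Groth.Agent.VarietyA.EulerLES.exactA₃ k _ hseq 0 1 rfl) (Groth.Agent.VarietyA.EulerLES.exactA₁ k _ hseq 0 1 rfl)
    (fun x => ⟨0, Subsingleton.elim (α := Coh.HH X (Coh.structureModule X) 1) _ _⟩)
  have hfive' : Module.finrank k (Coh.HH X (ClSub.idealMod E) 0) + Module.finrank k (Coh.HH X (ClSub.quotMod E) 0) +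
      Module.finrank k (Coh.HH X (Coh.structureModule X) 1) = Module.finrank k (Coh.HH X (Coh.structureModule X) 0) +
      Module.finrank k (Coh.HH X (ClSub.idealMod E) 1) := hfive
  have h4 : Module.finrank k (Coh.HH X (Coh.structureModule X) 1) = 0 := Module.finrank_zero_of_subsingleton
  rw [h0, h1, h2, h4] at hfive'
  exact (Module.finrank_zero_iff (R := k)).1 (by omega)

/-- A smooth closed subscheme with ideal isomorphic to that of an integral closed subscheme is integral. -/
theorem isIntegral_of_iso [IsAlgClosed k] (hq : Subsingleton (Coh.HH X (Coh.structureModule X) 1))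
    {I J : X.IdealSheafData} (e : ClSub.idealMod I ≅ ClSub.idealMod J) [IsIntegral I.subscheme]
    (hsm : Smooth (J.subschemeι ≫ (X ↘ Spec (CommRingCat.of k)))) : IsIntegral J.subscheme := by
  have h1 : Subsingleton (Coh.HH X (ClSub.idealMod J) 1) :=
    Fga.HShift.subsingleton_of_iso e 1 (subsingleton_H1 k hq I)
  have h0 : Subsingleton (Coh.HH X (ClSub.idealMod J) 0) :=
    Fga.HShift.subsingleton_of_iso e 0 (subsingleton_H0 k I inferInstance)
  have hne : Nonempty J.subscheme := by
    by_contra hempty
    have hJ : J = ⊤ := by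
      rw [← Scheme.IdealSheafData.support_eq_bot_iff]
      apply SetLike.coe_injective
      have h2 : (J.support : Set X) = Set.range J.subschemeι := J.range_subschemeι.symm
      rw [h2, Set.range_eq_empty_iff.2 (not_nonempty_iff.1 hempty)]
      rfl
    obtain ⟨e'⟩ : Nonempty (Coh.structureModule X ≅ ClSub.idealMod J) := by
      refine Dix.IdealModCartier.idealMod_principal (D := J) (a := (1 : Γ(X, ⊤))) ?_
      intro W hW
      rw [map_one]
      refine ⟨one_mem _, ?_⟩
      rw [hJ, Scheme.IdealSheafData.ideal_top, Pi.top_apply, Ideal.span_singleton_one]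
    have h5 : Subsingleton (Coh.HH X (Coh.structureModule X) 0) := Fga.HShift.subsingleton_of_iso e'.symm 0 h0
    have h6 : Module.finrank k (Coh.HH X (Coh.structureModule X) 0) = 1 := VarietyA.CurveFin.finrank_h0_structure k X
    rw [Module.finrank_zero_of_subsingleton] at h6
    exact zero_ne_one h6
  have hf : IsField Γ(X, ⊤) := isField_of_universallyClosed k (X ↘ Spec (CommRingCat.of k))
  have hsurj : Function.Surjective (J.subschemeι.app ⊤).hom := by
    intro t
    obtain ⟨s, hs⟩ := Ega3B.SectExact.surjective_of_H1 (K800.Restr.S₀_shortExact J) h1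
      (show Γ(ClSub.quotMod J, ⊤) from t)
    exact ⟨s, hs⟩
  refine Models.H58.CurveBC.isIntegral_of_smooth (J.subschemeι ≫ (X ↘ Spec (CommRingCat.of k))) ?_
  have hinj := injective_app k J hne
  let e : Γ(X, ⊤) ≃+* Γ(J.subscheme, ⊤) := RingEquiv.ofBijective _ ⟨hinj, hsurj⟩
  exact e.symm.toMulEquiv.isDomain Γ(X, ⊤)

end K848.Conn
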