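import Groth.Agent.Surf.K848.DetFit
import Groth.Agent.Surf.K457.BlowMult
import Groth.Agent.CycB.PushStalk
import Groth.Agent.Fdesc.PullbackStalk
import Groth.Agent.Sga67.ClosedPush
import Groth.Agent.QuotLF.K821.FittMinors

/-!
# The zeroth Fitting ideal of a rank one sheaf on an integral curve of a regular surface
-/

set_option autoImplicit false
universe u
open CategoryTheory CategoryTheory.Limits AlgebraicGeometry Opposite TopologicalSpace

namespace K848.FitCurve

open Groth.Agent Groth.Agent.CycB.StalkExact Groth.Agent.Divis.CartierBasic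
  K360.DegenChart K360.DegenGen K821.Minors K464.Curves K464.Base
  Groth.Agent.Divis.EffCartier Groth.Agent.Fdesc.PullbackStalk

section Alg

variable {R : Type u} [CommRing R] {m : ℕ} {A B N : Type u} [AddCommGroup A] [AddCommGroup B] [AddCommGroup N]
  [Module R A] [Module R B] [Module R N]

/-- The determinant of a presentation of a cyclic module generates its annihilator. -/
theorem fit_cyclic (b : Module.Basis (Fin m) R A) (c : Module.Basis (Fin m) R B) (f : A →ₗ[R] B) (g : B →ₗ[R] N)
    (hg : Function.Surjective g) (hfg : Function.Exact f g) (n : N)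
    (hn : ∀ y : N, ∃ r : R, r • n = y) (I : Ideal R) (hI : ∀ r : R, r • n = 0 ↔ r ∈ I) :
    Ideal.span {c.det (f ∘ b)} = I := by
  have h1 := K821.FittMinors.fitt_of_rel (fun i => g (c i)) (by
      have h1 : (Set.range fun i => g (c i)) = g '' (Set.range c) := by
        rw [← Set.range_comp]
        rfl
      rw [h1, Submodule.span_image, c.span_eq, Submodule.map_top, LinearMap.range_eq_top]
      exact hg) (fun j : Fin m => fun i => c.repr (f (b j)) i) (by
      intro a
      have h3 : ∑ i, a i • g (c i) = g (∑ i, a i • c i) := by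
        rw [map_sum]
        exact Finset.sum_congr rfl fun i _ => (map_smul _ _ _).symm
      rw [h3, hfg]
      have h5 : Set.range f = (Submodule.span R (Set.range fun j => f (b j)) : Set B) := by
        have h6 : (Set.range fun j => f (b j)) = f '' (Set.range b) := by
          rw [← Set.range_comp]
          rfl
        rw [h6, Submodule.span_image, b.span_eq, Submodule.map_top]
        rfl
      rw [h5, SetLike.mem_coe]
      have h6 : (Set.range fun j : Fin m => fun i => c.repr (f (b j)) i) =
          c.equivFun '' (Set.range fun j => f (b j)) := by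
        rw [← Set.range_comp]
        rfl
      have h7 : a = c.equivFun (∑ i, a i • c i) := by
        rw [← c.equivFun_symm_apply, LinearEquiv.apply_symm_apply]
      rw [h6]
      conv_rhs => rw [h7]
      rw [← LinearEquiv.coe_coe, ← Submodule.map_span]
      constructor
      · intro h
        exact ⟨_, h, rfl⟩
      · rintro ⟨y, hy, hyx⟩
        have h8 := c.equivFun.injective hyx
        rwa [← h8]) 0
  have h2 := K821.FittMinors.fitt_of_rel (fun _ : Fin 1 => n) (by
      rw [eq_top_iff]
      rintro y -
      obtain ⟨r, rfl⟩ := hn y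
      exact Submodule.smul_mem _ _ (Submodule.subset_span ⟨0, rfl⟩)) (fun r : I => fun _ : Fin 1 => (r : R)) (by
      intro a
      rw [Fin.sum_univ_one, hI]
      constructor
      · intro h
        refine Submodule.subset_span ⟨⟨a 0, h⟩, ?_⟩
        funext i
        rw [Subsingleton.elim i 0]
      · intro h
        have h3 : Submodule.span R (Set.range (fun r : I => fun _ : Fin 1 => (r : R))) ≤
            Submodule.comap (LinearMap.proj (R := R) (φ := fun _ : Fin 1 => R) 0) (I : Submodule R R) := by
          rw [Submodule.span_le]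
          rintro _ ⟨r, rfl⟩
          exact r.2
        exact h3 h) 0
  rw [h2, Nat.sub_zero, Nat.sub_zero, minorIdeal_square] at h1
  have h3 : c.det (f ∘ b) = (Matrix.of fun i j => c.repr (f (b j)) i).det := by
    rw [Module.Basis.det_apply]
    rfl
  rw [h3, ← h1]
  refine le_antisymm ?_ ?_
  · rw [minorIdeal_le_iff]
    intro e' f'
    rw [Matrix.det_fin_one]
    exact (f' 0).2
  · intro r hr
    have h4 := minor_mem 1 (Matrix.of fun (_ : Fin 1) (r : I) => (r : R)) id (fun _ => ⟨r, hr⟩)
    rw [Matrix.det_fin_one] at h4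
    exact h4

end Alg

section Geo

variable {X : Scheme.{u}}

theorem genericPoint_notMem [IsIntegral X] {D : X.IdealSheafData} (hD : BlowUp.IsEffCartierIdeal D) :
    genericPoint X ∉ D.support := by
  rw [mem_support_iff_stalkIdeal_ne_top, not_not]
  obtain ⟨g, hg, h⟩ := exists_stalkIdeal_eq_span hD (genericPoint X)
  rw [h, Ideal.span_singleton_eq_top]
  have hF : IsField (X.presheaf.stalk (genericPoint X)) := (inferInstance : Field X.functionField).toIsField
  let _ := hF.toField
  exact IsUnit.mk0 g (nonZeroDivisors.ne_zero hg)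

variable {C : Scheme.{u}} (j : C ⟶ X) [IsClosedImmersion j] [IsIntegral C] {M : C.Modules}

/-- The generic stalk of the direct image of a rank one module is the residue field. -/
theorem exists_gen (hrk : Module.finrank (C.presheaf.stalk (genericPoint C)) (M.presheaf.stalk (genericPoint C)) = 1) :
    ∃ n : ((Scheme.Modules.pushforward j).obj M).presheaf.stalk (j (genericPoint C)),
      (∀ y, ∃ r : X.presheaf.stalk (j (genericPoint C)), r • n = y) ∧
      ∀ r : X.presheaf.stalk (j (genericPoint C)), r • n = 0 ↔ r ∈ stalkIdeal j.ker (j (genericPoint C)) := by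
  have hF : IsField (C.presheaf.stalk (genericPoint C)) := (inferInstance : Field C.functionField).toIsField
  let _ := hF.toField
  obtain ⟨t, ht0, ht⟩ := finrank_eq_one_iff'.1 hrk
  have hbij := Sga67.FlatPre.pushAdd_bijective (j := j) j.isClosedEmbedding.isInducing M (genericPoint C)
  obtain ⟨n, hn⟩ := hbij.2 t
  refine ⟨n, fun y => ?_, fun r => ?_⟩
  · obtain ⟨c, hc⟩ := ht (pushAdd j M (genericPoint C) y)
    obtain ⟨r, rfl⟩ := j.stalkMap_surjective (genericPoint C) c
    refine ⟨r, hbij.1 ?_⟩
    rw [pushAdd_smul, hn]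
    exact hc
  · rw [← Divis.CartierStalk.ker_stalkMap j (genericPoint C), RingHom.mem_ker]
    constructor
    · intro h
      have h1 := congrArg (pushAdd j M (genericPoint C)) h
      rw [pushAdd_smul, hn, map_zero] at h1
      exact (smul_eq_zero.1 h1).resolve_right ht0
    · intro h
      apply hbij.1
      rw [pushAdd_smul, hn, map_zero]
      have h2 : (j.stalkMap (genericPoint C)) r = 0 := h
      rw [h2, zero_smul]

/-- A surjection with vanishing cokernel stalk. -/
theorem bijective_generic [IsIntegral X] (T : ShortComplex X.Modules) (hT : T.ShortExact)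
    (h : Subsingleton (T.X₃.presheaf.stalk (genericPoint X))) :
    Function.Bijective (stalkLin T.f (genericPoint X)) := by
  obtain ⟨h1, h2, h3⟩ := stalkLin_shortExact T hT (genericPoint X)
  refine ⟨h1, fun y => ?_⟩
  exact (h2 y).1 (Subsingleton.elim _ _)

/-- **The Fitting ideal of a rank one module on an integral curve.** -/
theorem fit_eq_ker {k : Type u} [Field k] (f : X ⟶ Spec (CommRingCat.of k)) [LocallyOfFiniteType f] [IsIntegral X]
    [IsNoetherian X] (hdim : topologicalKrullDim X = 2) (hreg : ∀ x : X, IsRegularLocalRing (X.presheaf.stalk x))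
    (hC : topologicalKrullDim C = 1)
    (hrk : Module.finrank (C.presheaf.stalk (genericPoint C)) (M.presheaf.stalk (genericPoint C)) = 1)
    {m : ℕ} (T : ShortComplex X.Modules) (hT : T.ShortExact)
    (hA : FlatMod.IsFinLocFreeOfRank m T.X₁) (hB : FlatMod.IsFinLocFreeOfRank m T.X₂)
    (e : T.X₃ ≅ (Scheme.Modules.pushforward j).obj M) :
    Function.Bijective (stalkLin T.f (genericPoint X)) ∧ Fitt.sheafIdeal (cokernel T.f) 0 = j.ker := by
  have hCu : IsCurve j.ker := K457.BlowMult.isCurve_ker j hC
  have hCe : BlowUp.IsEffCartierIdeal j.ker := isEff_of_isCurve k f hdim hreg hCu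
  have hsub : ∀ x : X, x ∉ j.ker.support → Subsingleton (T.X₃.presheaf.stalk x) := by
    intro x hx
    have h1 : Subsingleton (((Scheme.Modules.pushforward j).obj M).presheaf.stalk x) :=
      Groth.Agent.CycB.PushStalk.subsingleton_stalk_push j M x (by
        rw [j.isClosedEmbedding.isClosed_range.closure_eq]
        intro h
        apply hx
        have h2 : (j.ker.support : Set X) = Set.range j := by
          rw [Scheme.Hom.support_ker]
          exact j.isClosedEmbedding.isClosed_range.closure_eq
        rw [← SetLike.mem_coe, h2]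
        exact h)
    exact (stalkLinEquiv e x).toEquiv.subsingleton
  have hbij := bijective_generic T hT (hsub _ (genericPoint_notMem hCe))
  refine ⟨hbij, ?_⟩
  obtain ⟨L', hL'⟩ := Dual.H366.ExtQCoh.exists_isExtPow m (isCoh_of_rank hA).1
  obtain ⟨L, hL⟩ := Dual.H366.ExtQCoh.exists_isExtPow m (isCoh_of_rank hB).1
  obtain ⟨hE, -⟩ := DetFit.fit_det hA hB hL' hL T.f hbij
  refine K457.Total.eq_of_stalk_gp f hdim hreg hE hCe fun P hP => ?_
  obtain ⟨b, c, hst⟩ := DetFit.stalkIdeal_fit hA hB T.f (gp hP)
  obtain ⟨h1, h2, h3⟩ := stalkLin_shortExact T hT (gp hP)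
  by_cases hPC : P = j.ker
  · subst hPC
    rw [hst]
    have hgp := K457.BlowMult.gp_eq j hP
    have key : ∃ n : T.X₃.presheaf.stalk (gp hP), (∀ y, ∃ r : X.presheaf.stalk (gp hP), r • n = y) ∧
        ∀ r : X.presheaf.stalk (gp hP), r • n = 0 ↔ r ∈ stalkIdeal j.ker (gp hP) := by
      rw [hgp]
      obtain ⟨n, hn1, hn2⟩ := exists_gen j hrk
      let E := stalkLinEquiv e (j (genericPoint C))
      refine ⟨E.symm n, fun y => ?_, fun r => ?_⟩
      · obtain ⟨r, hr⟩ := hn1 (E y)
        exact ⟨r, E.injective (by rw [map_smul, E.apply_symm_apply, hr])⟩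
      · rw [← hn2, ← map_smul, E.symm.map_eq_zero_iff]
    obtain ⟨n, hn1, hn2⟩ := key
    exact fit_cyclic b c _ _ h3 h2 n hn1 _ hn2
  · have hgp : gp hP ∉ j.ker.support := gp_notMem hP hCu hPC
    have := hsub _ hgp
    rw [hst, fit_cyclic b c (stalkLin T.f (gp hP)) (stalkLin T.g (gp hP)) h3 h2 0
      (fun y => ⟨0, Subsingleton.elim _ _⟩) ⊤ (fun r => by simp)]
    exact (K464.DivLat.stalkIdeal_eq_top hgp).symm

end Geo

end K848.FitCurve
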