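import Groth.Agent.Surf.K848.Conn
import Groth.Agent.Surf.K848.FitCurve
import Groth.Agent.Surf.K464.Comp

/-!
# Integrality of the degeneracy curve of a general deformation of the presentation of a rank one module on a curve
-/

set_option autoImplicit false
universe u
open CategoryTheory CategoryTheory.Limits AlgebraicGeometry Opposite TopologicalSpace

namespace K848.ConnMain

open Groth.Agent Groth.Agent.CycB.StalkExact Groth.Agent.Divis.CartierBasic K464.Curves K464.Base

variable {X : Scheme.{u}}

/-- An integral effective Cartier divisor on a surface is a curve. -/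
theorem isCurve_of_isIntegral {k : Type u} [Field k] (f : X ⟶ Spec (CommRingCat.of k)) [LocallyOfFiniteType f]
    [IsIntegral X] (hdim : topologicalKrullDim X = 2) {J : X.IdealSheafData} (hJ : BlowUp.IsEffCartierIdeal J)
    (hi : IsIntegral J.subscheme) : IsCurve J := by
  obtain ⟨P, hP, hJP, hx⟩ := K464.Comp.exists_curve_le f hdim hJ (J.subschemeι (genericPoint J.subscheme)) (by
    have h : J.subschemeι (genericPoint J.subscheme) ∈ Set.range J.subschemeι := ⟨_, rfl⟩
    rw [J.range_subschemeι] at h
    exact h)
  have h1 : (J.support : Set X) = (P.support : Set X) := by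
    apply Set.Subset.antisymm
    · have h2 : closure {J.subschemeι (genericPoint J.subscheme)} = (J.support : Set X) := by
        have h3 : closure {genericPoint J.subscheme} = (Set.univ : Set J.subscheme) := genericPoint_spec _
        have h4 := J.subschemeι.isClosedEmbedding.isClosedMap.closure_image_eq_of_continuous
          J.subschemeι.continuous {genericPoint J.subscheme}
        rw [Set.image_singleton, h3, Set.image_univ] at h4
        rw [h4, J.range_subschemeι]
      rw [← h2]
      exact closure_minimal (Set.singleton_subset_iff.2 hx) P.support.isClosed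
    · exact Scheme.IdealSheafData.support_antitone hJP
  exact ⟨hi, by rw [h1]; exact hP.dim⟩

/-- **Integrality of smooth degeneracy curves.** -/
theorem main {k : Type u} [Field k] [IsAlgClosed k] [X.Over (Spec (CommRingCat.of k))] [IsIntegral X]
    [IsProper (X ↘ Spec (CommRingCat.of k))] (hdim : topologicalKrullDim X = 2)
    (hreg : ∀ x : X, IsRegularLocalRing (X.presheaf.stalk x))
    (hq : Subsingleton (Coh.HH X (Coh.structureModule X) 1))
    {C : Scheme.{u}} (j : C ⟶ X) [IsClosedImmersion j] [IsIntegral C] (hC : topologicalKrullDim C = 1)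
    {M : C.Modules}
    (hrk : Module.finrank (C.presheaf.stalk (genericPoint C)) (M.presheaf.stalk (genericPoint C)) = 1)
    {m : ℕ} (T : ShortComplex X.Modules) (hT : T.ShortExact)
    (hA : FlatMod.IsFinLocFreeOfRank m T.X₁) (hB : FlatMod.IsFinLocFreeOfRank m T.X₂)
    (e : T.X₃ ≅ (Scheme.Modules.pushforward j).obj M)
    (φ : T.X₁ ⟶ T.X₂) (hφ : Function.Bijective (stalkLin φ (genericPoint X)))
    (hsm : Smooth ((Fitt.sheafIdeal (cokernel φ) 0).subschemeι ≫ (X ↘ Spec (CommRingCat.of k)))) :
    BlowUp.IsEffCartierIdeal (Fitt.sheafIdeal (cokernel φ) 0) ∧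
    IsIntegral (Fitt.sheafIdeal (cokernel φ) 0).subscheme ∧
      topologicalKrullDim (Fitt.sheafIdeal (cokernel φ) 0).subscheme = 1 := by
  have hN : AlgebraicGeometry.IsNoetherian X := CurvesB.CurveRR.isNoetherian_of_proper k X
  obtain ⟨hbij, hfit⟩ := FitCurve.fit_eq_ker j (X ↘ Spec (CommRingCat.of k)) hdim hreg hC hrk T hT hA hB e
  obtain ⟨e'⟩ := DetFit.nonempty_iso_idealMod hA hB T.f φ hbij hφ
  rw [hfit] at e'
  have hint : IsIntegral j.ker.subscheme := (K457.BlowMult.isCurve_ker j hC).integral
  have hi := Conn.isIntegral_of_iso k hq e' hsm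
  obtain ⟨L', hL'⟩ := Dual.H366.ExtQCoh.exists_isExtPow m (K360.DegenGen.isCoh_of_rank hA).1
  obtain ⟨L, hL⟩ := Dual.H366.ExtQCoh.exists_isExtPow m (K360.DegenGen.isCoh_of_rank hB).1
  obtain ⟨hE, -⟩ := DetFit.fit_det hA hB hL' hL φ hφ
  have hcu := isCurve_of_isIntegral (X ↘ Spec (CommRingCat.of k)) hdim hE hi
  exact ⟨hE, hi, by rw [dim_sub]; exact hcu.dim⟩

end K848.ConnMain
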